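import Cfsg.Agent.EqLemmas
import Cfsg.Agent.Lib.SubgroupCount.Basic

/-!
# Counting subgroups of elementary abelian groups (owner: helper76)

* `card_order_prime_mul`: `(p - 1) · #{subgroups of order p} + 1 = |V|`
* `card_index_prime_mul`: the same for subgroups of index `p` (duality)
* `card_index_prime_modEq_sq`: `#{subgroups of index p} ≡ 1 + p [MOD p²]` when `p² ∣ |V|`
-/

namespace Cfsg.Agent.Kulakoff

variable {p : ℕ}

theorem card_order_prime_mul (hp : p.Prime) {V : Type*} [Group V] [Finite V] (hexp : ∀ x : V, x ^ p = 1) :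
    (p - 1) * Nat.card {L : Subgroup V // Nat.card L = p} + 1 = Nat.card V := by
  classical
  haveI := Fact.mk hp
  letI := Fintype.ofFinite V
  have ho : ∀ x : V, x ≠ 1 → orderOf x = p := fun x hx => orderOf_eq_prime (hexp x) hx
  let F : {x : V // x ≠ 1} → {L : Subgroup V // Nat.card L = p} :=
    fun x => ⟨Subgroup.zpowers x.1, by rw [Nat.card_zpowers, ho x.1 x.2]⟩
  have hfib : ∀ L, Nat.card {x : {x : V // x ≠ 1} // F x = L} = p - 1 := by
    intro L
    have e : {x : {x : V // x ≠ 1} // F x = L} ≃ {y : L.1 // y ≠ 1} :=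
      { toFun := fun x => ⟨⟨x.1.1, by
            have h := congrArg Subtype.val x.2
            simp only [F] at h
            exact h ▸ Subgroup.mem_zpowers _⟩, fun h => x.1.2 (congrArg Subtype.val h)⟩
        invFun := fun y => ⟨⟨y.1.1, fun h => y.2 (Subtype.ext h)⟩, Subtype.ext (by
            show Subgroup.zpowers (y.1 : V) = L.1
            exact Subgroup.eq_of_le_of_card_ge (Subgroup.zpowers_le.mpr y.1.2)
              (by rw [L.2, Nat.card_zpowers, ho _ fun h => y.2 (Subtype.ext h)]))⟩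
        left_inv := fun x => rfl
        right_inv := fun y => rfl }
    rw [Nat.card_congr e, Nat.card_eq_fintype_card, Fintype.card_subtype_compl, Fintype.card_subtype_eq,
      ← Nat.card_eq_fintype_card, L.2]
  have h1 : Nat.card {x : V // x ≠ 1} = Nat.card {L : Subgroup V // Nat.card L = p} * (p - 1) := by
    rw [← Nat.card_congr (Equiv.sigmaFiberEquiv F), Nat.card_sigma, Finset.sum_congr rfl (fun L _ => hfib L),
      Finset.sum_const, Finset.card_univ, smul_eq_mul, ← Nat.card_eq_fintype_card]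
  rw [mul_comm, ← h1, Nat.card_eq_fintype_card, Fintype.card_subtype_compl, Fintype.card_subtype_eq,
    ← Nat.card_eq_fintype_card]
  exact Nat.sub_add_cancel Nat.card_pos

theorem card_index_prime_mul (hp : p.Prime) {V : Type*} [CommGroup V] [Finite V] (hexp : ∀ x : V, x ^ p = 1) :
    (p - 1) * Nat.card {L : Subgroup V // L.index = p} + 1 = Nat.card V := by
  let M := AlgebraicClosure ℚ
  haveI : NeZero (Monoid.exponent V) := ⟨Monoid.exponent_ne_zero_of_finite⟩
  haveI : NeZero ((Monoid.exponent V : ℕ) : M) := ⟨Nat.cast_ne_zero.mpr Monoid.exponent_ne_zero_of_finite⟩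
  obtain ⟨e⟩ := CommGroup.monoidHom_mulEquiv_of_hasEnoughRootsOfUnity V M
  haveI : Finite (V →* Mˣ) := Finite.of_equiv _ e.symm.toEquiv
  have hexp' : ∀ x : V →* Mˣ, x ^ p = 1 := fun x => e.injective (by rw [map_pow, map_one, hexp])
  let i := CommGroup.subgroupOrderIsoSubgroupMonoidHom V M
  have hc : Nat.card {L : Subgroup V // L.index = p} = Nat.card {L : Subgroup (V →* Mˣ) // Nat.card L = p} := by
    refine Nat.card_congr (Equiv.subtypeEquiv (i.toEquiv.trans OrderDual.ofDual) fun L => ?_)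
    show L.index = p ↔ Nat.card (i L).ofDual = p
    rw [CommGroup.card_subgroupOrderIsoSubgroupMonoidHom, Subgroup.index_eq_card]
  rw [hc, card_order_prime_mul hp hexp', Nat.card_congr e.toEquiv]

theorem card_index_prime_modEq_sq (hp : p.Prime) {V : Type*} [CommGroup V] [Finite V]
    (hexp : ∀ x : V, x ^ p = 1) (h2 : p ^ 2 ∣ Nat.card V) :
    Nat.card {L : Subgroup V // L.index = p} ≡ 1 + p [MOD p ^ 2] := by
  have h := card_index_prime_mul hp hexp
  have h1 : p ^ 2 ∣ (p - 1) * (1 + p) + 1 := by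
    obtain ⟨q, rfl⟩ : ∃ q, p = q + 1 := ⟨p - 1, (Nat.sub_add_cancel hp.one_le).symm⟩
    exact ⟨1, by rw [Nat.add_sub_cancel]; ring⟩
  have h3 : (p - 1) * Nat.card {L : Subgroup V // L.index = p} + 1 ≡ (p - 1) * (1 + p) + 1 [MOD p ^ 2] :=
    (Nat.modEq_zero_iff_dvd.mpr (h ▸ h2)).trans (Nat.modEq_zero_iff_dvd.mpr h1).symm
  refine Nat.ModEq.cancel_left_of_coprime ?_ (Nat.ModEq.add_right_cancel' 1 h3)
  refine Nat.Coprime.pow_left 2 ?_
  rw [Nat.coprime_self_sub_right hp.one_le]
  exact Nat.coprime_one_right p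

end Cfsg.Agent.Kulakoff
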