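import Cfsg.Agent.EqLemmas
import Cfsg.Agent.Lib.Kulakoff.Elementary
import Cfsg.Agent.Lib.PGroup.UniqueOrderP
import Cfsg.Agent.Lib.Cores.Frattini

/-!
# Kulakoff's theorem for `p`-groups, `p` odd (owner: helper76)

* `cnt_modEq`: in a non-cyclic `p`-group of order `p ^ n` the number of subgroups of order `p ^ a`,
  `1 ≤ a < n`, is `≡ 1 + p [MOD p²]`
* `cnt_cyclic`: in a cyclic group there is one such subgroup
-/

namespace Cfsg.Agent.Kulakoff

universe u

open Subgroup

variable {p : ℕ}

/-- Number of subgroups of order `p ^ a`. -/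
noncomputable def cnt (p : ℕ) (G : Type*) [Group G] (a : ℕ) : ℕ := Nat.card {H : Subgroup G // Nat.card H = p ^ a}

theorem cnt_sub {G : Type*} [Group G] (M : Subgroup G) (a : ℕ) :
    cnt p M a = Nat.card {H : Subgroup G // Nat.card H = p ^ a ∧ H ≤ M} := by
  refine Nat.card_congr
    { toFun := fun H => ⟨H.1.map M.subtype, by
        rw [Subgroup.card_map_of_injective M.subtype_injective]; exact H.2, Subgroup.map_subtype_le _⟩
      invFun := fun H => ⟨H.1.subgroupOf M, by
        rw [Nat.card_congr (Subgroup.subgroupOfEquivOfLe H.2.2).toEquiv]; exact H.2.1⟩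
      left_inv := fun H => Subtype.ext (Subgroup.comap_map_eq_self_of_injective M.subtype_injective _)
      right_inv := fun H => Subtype.ext (Subgroup.map_subgroupOf_eq_of_le H.2.2) }

theorem cnt_cyclic (hp : p.Prime) {G : Type*} [Group G] [Finite G] [IsCyclic G] {a : ℕ}
    (hd : p ^ a ∣ Nat.card G) : cnt p G a = 1 := by
  classical
  letI := Fintype.ofFinite G
  rw [cnt, Nat.card_eq_one_iff_unique]
  refine ⟨⟨fun H K => Subtype.ext ?_⟩, ?_⟩
  · have key : ∀ L : Subgroup G, Nat.card L = p ^ a →
        Finset.univ.filter (fun x => x ∈ L) = Finset.univ.filter (fun x : G => x ^ (p ^ a) = 1) := by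
      intro L hL
      refine Finset.eq_of_subset_of_card_le (fun x hx => ?_) ?_
      · simp only [Finset.mem_filter, Finset.mem_univ, true_and] at hx ⊢
        have h1 : x ^ Nat.card L = 1 := congrArg Subtype.val (pow_card_eq_one' (x := (⟨x, hx⟩ : L)))
        simpa only [hL] using h1
      · refine (IsCyclic.card_pow_eq_one_le (pow_pos hp.pos a)).trans ?_
        rw [← Fintype.card_subtype, ← Nat.card_eq_fintype_card]
        exact hL.ge
    ext x
    have := congrArg (fun T : Finset G => x ∈ T) ((key H.1 H.2).trans (key K.1 K.2).symm)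
    simpa using this
  · obtain ⟨g, hg⟩ := IsCyclic.exists_ofOrder_eq_natCard (α := G)
    obtain ⟨m, hm⟩ := hd
    have hm0 : m ≠ 0 := by rintro rfl; exact Nat.card_pos.ne' (hm.trans (mul_zero _))
    refine ⟨⟨Subgroup.zpowers (g ^ m), ?_⟩⟩
    rw [Nat.card_zpowers, orderOf_pow, hg, hm, Nat.gcd_mul_left_left, Nat.mul_div_left _ (Nat.pos_of_ne_zero hm0)]

variable [hp : Fact p.Prime] {P : Type*} [Group P] [Finite P]

theorem index_coatom_iff (hP : IsPGroup p P) {M : Subgroup P} : M.index = p ↔ IsCoatom M := by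
  refine ⟨fun h => ⟨fun ht => hp.out.ne_one (by rw [← h, ht, index_top]), fun K hK => ?_⟩,
    PGroup.isCoatom_index hP⟩
  refine PGroup.eq_of_le_of_card_le le_top ?_
  rw [card_top, ← card_mul_index M, h, mul_comm]
  exact PGroup.mul_card_le_of_lt hP hK

theorem index_eq_pow (hP : IsPGroup p P) (K : Subgroup P) : ∃ k, K.index = p ^ k := by
  obtain ⟨m, hm⟩ := hP.exists_card_eq
  obtain ⟨k, -, hk⟩ := (Nat.dvd_prime_pow hp.out).mp (hm ▸ K.index_dvd_card)
  exact ⟨k, hk⟩

theorem not_isCyclic_index_frattini (hP : IsPGroup p P) (hnc : ¬ IsCyclic P) : p ^ 2 ∣ (frattini P).index := by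
  obtain ⟨k, hk⟩ := index_eq_pow hP (frattini P)
  rw [hk]
  refine pow_dvd_pow p ?_
  by_contra hlt
  rcases (by omega : k = 0 ∨ k = 1) with rfl | rfl
  · rw [pow_zero, index_eq_one] at hk
    haveI : Subsingleton P := by
      refine ⟨fun x y => ?_⟩
      have := PGroup.eq_top_of_sup_frattini (G := P) (K := ⊥) (by rw [bot_sup_eq, hk])
      have h : ∀ z : P, z = 1 := fun z => Subgroup.mem_bot.mp (this.symm ▸ mem_top z)
      rw [h x, h y]
    exact hnc inferInstance
  · rw [pow_one] at hk
    have hc := (index_coatom_iff hP).mp hk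
    obtain ⟨x, -, hx⟩ := SetLike.exists_of_lt (lt_top_iff_ne_top.mpr hc.1)
    exact hnc (PGroup.isCyclic_of_sup_frattini (hc.2 _ (lt_of_le_of_ne le_sup_right fun h =>
      hx (h ▸ Subgroup.mem_sup_left (mem_zpowers x)))))

omit [Finite P] in
/-- Subgroups of index `p ^ j` over `K ⊇ Φ(P)` are those of the elementary quotient. -/
theorem card_over (K : Subgroup P) [K.Normal] (q : ℕ) :
    Nat.card {T : Subgroup P // K ≤ T ∧ T.index = q} = Nat.card {T : Subgroup (P ⧸ K) // T.index = q} := by
  refine Nat.card_congr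
    { toFun := fun T => ⟨T.1.map (QuotientGroup.mk' K), by
        rw [← Subgroup.index_comap_of_surjective _ (QuotientGroup.mk'_surjective K),
          Subgroup.comap_map_eq_self (by rw [QuotientGroup.ker_mk']; exact T.2.1)]
        exact T.2.2⟩
      invFun := fun T => ⟨T.1.comap (QuotientGroup.mk' K),
        le_trans (QuotientGroup.ker_mk' K).ge (MonoidHom.ker_le_comap _ _),
        (Subgroup.index_comap_of_surjective _ (QuotientGroup.mk'_surjective K)).trans T.2⟩
      left_inv := fun T => Subtype.ext (Subgroup.comap_map_eq_self (by rw [QuotientGroup.ker_mk']; exact T.2.1))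
      right_inv := fun T => Subtype.ext (Subgroup.map_comap_eq_self_of_surjective (QuotientGroup.mk'_surjective K) _) }

theorem normal_of_frattini_le (hP : IsPGroup p P) {K : Subgroup P} (h : frattini P ≤ K) : K.Normal :=
  Subgroup.Normal.of_commutator_le P ((PGroup.commutator_le_frattini hP).trans h)

theorem quotient_elementary (hP : IsPGroup p P) {K : Subgroup P} [K.Normal] (h : frattini P ≤ K) :
    (∀ a b : P ⧸ K, a * b = b * a) ∧ ∀ a : P ⧸ K, a ^ p = 1 := by
  refine ⟨fun a b => ?_, fun a => ?_⟩
  · induction a using QuotientGroup.induction_on with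
    | H x => induction b using QuotientGroup.induction_on with
      | H y =>
        rw [← QuotientGroup.mk_mul, ← QuotientGroup.mk_mul, QuotientGroup.eq]
        refine h ?_
        have := PGroup.commutatorElement_mem_frattini hP y⁻¹ x⁻¹
        simpa [commutatorElement_def, mul_assoc] using this
  · induction a using QuotientGroup.induction_on with
    | H x =>
      rw [← QuotientGroup.mk_pow, QuotientGroup.eq_one_iff]
      exact h (PGroup.pow_mem_frattini hP x)

/-- Maximal subgroups over `K`. -/
theorem coatoms_over (hP : IsPGroup p P) {K : Subgroup P} (h : frattini P ≤ K) (hK : p ^ 2 ∣ K.index) :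
    Nat.card {M : Subgroup P // K ≤ M ∧ M.index = p} ≡ 1 + p [MOD p ^ 2] := by
  haveI := normal_of_frattini_le hP h
  obtain ⟨hc, he⟩ := quotient_elementary hP h
  letI : CommGroup (P ⧸ K) := { mul_comm := hc }
  rw [card_over]
  exact card_index_prime_modEq_sq hp.out he (Subgroup.index_eq_card K ▸ hK)

/-- Subgroups of index `p²` over `K`. -/
theorem second_over (hP : IsPGroup p P) {K : Subgroup P} (h : frattini P ≤ K) (hK : p ^ 2 ∣ K.index) :
    Nat.card {T : Subgroup P // K ≤ T ∧ T.index = p ^ 2} ≡ 1 [MOD p] := by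
  haveI := normal_of_frattini_le hP h
  obtain ⟨k, hk⟩ := index_eq_pow hP K
  rw [hk] at hK
  have hk2 : 2 ≤ k := (Nat.pow_dvd_pow_iff_le_right hp.out.one_lt).mp hK
  rw [card_over]
  have hc : Nat.card (P ⧸ K) = p ^ k := by rw [← Subgroup.index_eq_card]; exact hk
  have he : Nat.card {T : Subgroup (P ⧸ K) // T.index = p ^ 2} =
      Nat.card {T : Subgroup (P ⧸ K) // Nat.card T = p ^ (k - 2)} := by
    refine Nat.card_congr (Equiv.subtypeEquivRight fun T => ?_)
    have h1 : Nat.card T * T.index = p ^ (k - 2) * p ^ 2 := by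
      rw [T.card_mul_index, hc, ← pow_add]; congr 1; omega
    constructor
    · intro h2; rw [h2] at h1
      exact Nat.eq_of_mul_eq_mul_right (pow_pos hp.out.pos 2) h1
    · intro h2; rw [h2] at h1
      exact Nat.eq_of_mul_eq_mul_left (pow_pos hp.out.pos _) h1
  rw [he]
  exact SubgroupCount.card_subgroup_prime_pow_modEq_one hp.out (hc ▸ pow_dvd_pow p (by omega))

omit hp [Finite P] in
theorem modEq_of_eq {n a b : ℕ} (h : a = b) : a ≡ b [MOD n] := h ▸ Nat.ModEq.refl _

omit hp [Finite P] in
theorem sum_modEq {ι : Type*} (s : Finset ι) {f g : ι → ℕ} {n : ℕ} (h : ∀ i ∈ s, f i ≡ g i [MOD n]) :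
    ∑ i ∈ s, f i ≡ ∑ i ∈ s, g i [MOD n] := by
  classical
  induction s using Finset.induction_on with
  | empty => exact Nat.ModEq.refl _
  | @insert a s ha ih =>
    rw [Finset.sum_insert ha, Finset.sum_insert ha]
    exact (h a (Finset.mem_insert_self a s)).add (ih fun i hi => h i (Finset.mem_insert_of_mem hi))

omit hp [Finite P] in
theorem double_count {X Y : Type*} [Fintype X] [Fintype Y] (R : X → Y → Prop) :
    ∑ x, Nat.card {y // R x y} = ∑ y, Nat.card {x // R x y} := by
  classical
  simp only [Nat.card_eq_fintype_card, Fintype.card_subtype]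
  exact Finset.sum_card_bipartiteAbove_eq_sum_card_bipartiteBelow R

omit [Finite P] in
theorem card_sub_lt {n : ℕ} (hn : Nat.card P = p ^ n) {M : Subgroup P} (hM : M.index = p) :
    ∃ m, n = m + 1 ∧ Nat.card M = p ^ m := by
  have h := M.card_mul_index
  rw [hM, hn] at h
  rcases n with _ | m
  · exfalso
    have h1 : p ∣ p ^ 0 := ⟨Nat.card M, by rw [← h, mul_comm]⟩
    exact hp.out.ne_one (Nat.dvd_one.mp (by simpa using h1))
  · refine ⟨m, rfl, Nat.eq_of_mul_eq_mul_right hp.out.pos (h.trans (pow_succ p m))⟩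

/-- With `p` odd, exactly one maximal subgroup is non-cyclic if one is cyclic (`|P| ≥ p³`). -/
theorem card_noncyclic_coatom_of_cyclic (hp2 : p ≠ 2) (hP : IsPGroup p P) (hnc : ¬ IsCyclic P) {n : ℕ}
    (hn : Nat.card P = p ^ n) (hn3 : 3 ≤ n) {C : Subgroup P} (hC : IsCyclic C) (hCi : C.index = p) :
    Nat.card {M : Subgroup P // M.index = p ∧ ¬ IsCyclic M} = 1 := by
  obtain ⟨K, hK, hKc⟩ := PGroup.cyclic_index_p_omega hp2 hP hnc hC hCi
  have hΦC : frattini P ≤ C := frattini_le_coatom ((index_coatom_iff hP).mp hCi)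
  have hKnc : ∀ M : Subgroup P, K ≤ M → ¬ IsCyclic M := by
    intro M hKM hM
    have h := PGroup.card_inf_cyclic_le (E := K) (C := M) hM hp.out.pos fun x hx => (hK x).mp hx
    rw [inf_eq_left.mpr hKM, hKc, sq] at h
    nlinarith [hp.out.two_le]
  have hmem : ∀ M : Subgroup P, M.index = p → ¬ IsCyclic M → K ⊔ frattini P ≤ M := by
    intro M hM hMc
    refine sup_le ?_ (frattini_le_coatom ((index_coatom_iff hP).mp hM))
    have hD : (C.subgroupOf M).index = p := by
      show C.relIndex M = p
      have h1 : C.relIndex M ≤ p := hCi ▸ PGroup.relIndex_le_index M C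
      obtain ⟨k, hk⟩ := index_eq_pow (hP.to_subgroup M) (C.subgroupOf M)
      change C.relIndex M = p ^ k at hk
      rcases k with _ | k
      · exfalso
        rw [pow_zero, relIndex_eq_one] at hk
        exact hMc (isCyclic_of_injective (Subgroup.inclusion hk) (Subgroup.inclusion_injective hk))
      · rw [hk, pow_succ] at h1
        have h2 : p ^ k ≤ 1 := le_of_mul_le_mul_right (by rwa [one_mul]) hp.out.pos
        have h3 : p ^ k = 1 := le_antisymm h2 (Nat.one_le_pow _ _ hp.out.pos)
        rw [hk, pow_succ, h3, one_mul]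
    haveI : IsCyclic (C.subgroupOf M) :=
      isCyclic_of_injective (M.subtype.subgroupComap C) (fun x y h => Subtype.ext (Subtype.ext
        (congrArg (fun z : C => (z : P)) h)))
    obtain ⟨L, hL, hLc⟩ := PGroup.cyclic_index_p_omega hp2 (hP.to_subgroup M) hMc inferInstance hD
    have hle : L.map M.subtype ≤ K := by
      rintro _ ⟨x, hx, rfl⟩
      exact (hK _).mpr (by rw [← map_pow, (hL x).mp hx, map_one])
    have heq : L.map M.subtype = K := Subgroup.eq_of_le_of_card_ge hle
      (by rw [Subgroup.card_map_of_injective M.subtype_injective, hLc, hKc])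
    exact heq ▸ Subgroup.map_subtype_le L
  set M₀ := K ⊔ frattini P
  have hΦ2 : (frattini P).index ∣ p ^ 2 := by
    classical
    obtain ⟨a, ha⟩ := (C.isCyclic_iff_exists_zpowers_eq_top).mp hC
    obtain ⟨b, -, hb⟩ := SetLike.exists_of_lt (lt_top_iff_ne_top.mpr ((index_coatom_iff hP).mp hCi).1)
    have htop : Subgroup.closure (({a, b} : Finset P) : Set P) = ⊤ := by
      rw [Finset.coe_pair, ← PGroup.sup_zpowers_eq_closure, ha]
      exact ((index_coatom_iff hP).mp hCi).2 _ (lt_of_le_of_ne le_sup_left fun h =>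
        hb (h ▸ Subgroup.mem_sup_right (mem_zpowers b)))
    obtain ⟨j, hj, he⟩ := Cores.index_frattini_le_of_closure hP {a, b}
    rw [he, htop, sup_top_eq, index_top, mul_one]
    exact pow_dvd_pow p (hj.trans Finset.card_le_two)
  have hΦi : (frattini P).index = p ^ 2 := dvd_antisymm hΦ2 (not_isCyclic_index_frattini hP hnc)
  have hlt : frattini P < M₀ := by
    refine lt_of_le_of_ne le_sup_right fun h => hKnc C ?_ hC
    exact le_trans (le_sup_left.trans h.ge) hΦC
  have hne : M₀ ≠ ⊤ := by
    intro h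
    have hKt : K = ⊤ := PGroup.eq_top_of_sup_frattini h
    have := congrArg (fun L : Subgroup P => Nat.card L) hKt
    simp only [card_top, hKc, hn] at this
    have := Nat.pow_right_injective hp.out.two_le this
    omega
  have hM₀ : M₀.index = p := by
    have h1 := Subgroup.relIndex_mul_index hlt.le
    rw [hΦi] at h1
    obtain ⟨k, hk⟩ := index_eq_pow hP M₀
    have hk0 : k ≠ 0 := fun h => hne (index_eq_one.mp (by rw [hk, h, pow_zero]))
    have hk2 : k ≤ 2 := (Nat.pow_dvd_pow_iff_le_right hp.out.one_lt).mp (hk ▸ h1 ▸ dvd_mul_left _ _)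
    rcases (by omega : k = 1 ∨ k = 2) with rfl | rfl
    · rw [hk, pow_one]
    · exfalso
      rw [hk, Nat.mul_eq_right (pow_ne_zero 2 hp.out.ne_zero)] at h1
      exact hlt.not_ge (relIndex_eq_one.mp h1)
  rw [Nat.card_eq_one_iff_unique]
  refine ⟨⟨fun M N => Subtype.ext ?_⟩, ⟨⟨M₀, hM₀, hKnc _ le_sup_left⟩⟩⟩
  have hu : ∀ M : {M : Subgroup P // M.index = p ∧ ¬ IsCyclic M}, M.1 = M₀ := fun M => by
    rcases ((index_coatom_iff hP).mp hM₀).le_iff.mp (hmem M.1 M.2.1 M.2.2) with h | h
    · exact absurd h ((index_coatom_iff hP).mp M.2.1).1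
    · exact h
  rw [hu M, hu N]

theorem cnt_modEq_aux (hp2 : p ≠ 2) : ∀ (n : ℕ) (P : Type u) [Group P] [Finite P], Nat.card P = p ^ n →
    ¬ IsCyclic P → ∀ a, 1 ≤ a → a < n → cnt p P a ≡ 1 + p [MOD p ^ 2] := by
  intro n
  induction n using Nat.strong_induction_on with
  | _ n ih =>
    intro P _ _ hn hnc a ha han
    classical
    have hP : IsPGroup p P := IsPGroup.of_card hn
    letI := Fintype.ofFinite P
    haveI : Fintype (Subgroup P) := Fintype.ofFinite _
    have hd := not_isCyclic_index_frattini hP hnc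
    have hmax := coatoms_over hP le_rfl hd
    have hmax' : Nat.card {M : Subgroup P // M.index = p} ≡ 1 + p [MOD p ^ 2] := by
      refine (modEq_of_eq ?_).trans hmax
      exact Nat.card_congr (Equiv.subtypeEquivRight fun M =>
        ⟨fun h => ⟨frattini_le_coatom ((index_coatom_iff hP).mp h), h⟩, fun h => h.2⟩)
    by_cases htop : a + 1 = n
    · refine (modEq_of_eq ?_).trans hmax'
      refine Nat.card_congr (Equiv.subtypeEquivRight fun M => ?_)
      have h1 := M.card_mul_index
      rw [hn, ← htop, pow_succ] at h1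
      constructor
      · intro h; rw [h] at h1; exact Nat.eq_of_mul_eq_mul_left (pow_pos hp.out.pos a) h1
      · intro h; rw [h] at h1; exact Nat.eq_of_mul_eq_mul_right hp.out.pos h1
    have ha2 : a + 2 ≤ n := by omega
    let X := {H : Subgroup P // Nat.card H = p ^ a}
    let M' := {M : Subgroup P // M.index = p}
    let T' := {T : Subgroup P // frattini P ≤ T ∧ T.index = p ^ 2}
    let B : X → Prop := fun H => p ^ 2 ∣ (H.1 ⊔ frattini P).index
    haveI : Fintype X := Fintype.ofFinite _
    haveI : Fintype M' := Fintype.ofFinite _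
    haveI : Fintype T' := Fintype.ofFinite _
    -- maximal subgroups over one subgroup
    have hHM : ∀ H : X, Nat.card {M : M' // H.1 ≤ M.1} ≡ 1 + p * (if B H then 1 else 0) [MOD p ^ 2] := by
      intro H
      set K := H.1 ⊔ frattini P with hK
      have he : Nat.card {M : M' // H.1 ≤ M.1} = Nat.card {M : Subgroup P // K ≤ M ∧ M.index = p} :=
        Nat.card_congr
          { toFun := fun M => ⟨M.1.1, sup_le M.2 (frattini_le_coatom ((index_coatom_iff hP).mp M.1.2)), M.1.2⟩
            invFun := fun M => ⟨⟨M.1, M.2.2⟩, le_sup_left.trans M.2.1⟩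
            left_inv := fun M => rfl
            right_inv := fun M => rfl }
      rw [he]
      by_cases hB : B H
      · rw [if_pos hB, mul_one]
        exact coatoms_over hP le_sup_right hB
      · rw [if_neg hB, mul_zero, add_zero]
        have hne : K ≠ ⊤ := fun h => by
          have hH := PGroup.eq_top_of_sup_frattini h
          have := H.2
          rw [hH, card_top, hn] at this
          have := Nat.pow_right_injective hp.out.two_le this
          omega
        obtain ⟨k, hk⟩ := index_eq_pow hP K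
        have hk1 : k = 1 := by
          have h0 : k ≠ 0 := fun h => hne (index_eq_one.mp (by rw [hk, h, pow_zero]))
          by_contra h1
          exact hB (hk ▸ pow_dvd_pow p (by omega) : p ^ 2 ∣ K.index)
        rw [hk1, pow_one] at hk
        refine modEq_of_eq (Nat.card_eq_one_iff_unique.mpr ⟨⟨fun M N => Subtype.ext ?_⟩, ⟨⟨K, le_rfl, hk⟩⟩⟩)
        have hu : ∀ M : {M : Subgroup P // K ≤ M ∧ M.index = p}, M.1 = K := fun M => by
          rcases ((index_coatom_iff hP).mp hk).le_iff.mp M.2.1 with h | h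
          · exact absurd h ((index_coatom_iff hP).mp M.2.2).1
          · exact h
        rw [hu M, hu N]
    have hsub : ∀ (M : Subgroup P), Nat.card {H : X // H.1 ≤ M} = cnt p M a := fun M => by
      rw [cnt_sub]
      exact Nat.card_congr
        { toFun := fun H => ⟨H.1.1, H.1.2, H.2⟩
          invFun := fun H => ⟨⟨H.1, H.2.1⟩, H.2.2⟩
          left_inv := fun H => rfl
          right_inv := fun H => rfl }
    -- one maximal subgroup
    have hMH : ∀ M : M', Nat.card {H : X // H.1 ≤ M.1} ≡ 1 + p * (if IsCyclic M.1 then 0 else 1) [MOD p ^ 2] := by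
      intro M
      rw [hsub]
      obtain ⟨m, rfl, hm⟩ := card_sub_lt hn M.2
      by_cases hc : IsCyclic M.1
      · rw [if_pos hc, mul_zero, add_zero]
        exact modEq_of_eq (cnt_cyclic hp.out (hm ▸ pow_dvd_pow p (by omega)))
      · rw [if_neg hc, mul_one]
        exact ih m (by omega) M.1 hm hc a ha (by omega)
    have hcount := double_count (fun (H : X) (M : M') => H.1 ≤ M.1)
    have h1 : ∑ H : X, Nat.card {M : M' // H.1 ≤ M.1} ≡ Nat.card X + p * Nat.card {H : X // B H} [MOD p ^ 2] := by
      refine (sum_modEq _ fun H _ => hHM H).trans (modEq_of_eq ?_)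
      rw [Finset.sum_add_distrib, ← Finset.mul_sum, Finset.sum_boole, Finset.sum_const, Finset.card_univ,
        Nat.card_eq_fintype_card, Nat.card_eq_fintype_card]
      simp only [Fintype.card_subtype, smul_eq_mul, mul_one, Nat.cast_id]
    let c := Nat.card {M : Subgroup P // M.index = p ∧ ¬ IsCyclic M}
    have h2 : ∑ M : M', Nat.card {H : X // H.1 ≤ M.1} ≡ Nat.card M' + p * c [MOD p ^ 2] := by
      refine (sum_modEq _ fun M _ => hMH M).trans (modEq_of_eq ?_)
      rw [Finset.sum_add_distrib, ← Finset.mul_sum, Finset.sum_const, Finset.card_univ]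
      have hb : (∑ M : M', if IsCyclic M.1 then 0 else 1) = c := by
        rw [show c = Nat.card {M : M' // ¬ IsCyclic M.1} from Nat.card_congr
          { toFun := fun M => ⟨⟨M.1, M.2.1⟩, M.2.2⟩
            invFun := fun M => ⟨M.1.1, M.1.2, M.2⟩
            left_inv := fun M => rfl
            right_inv := fun M => rfl },
          Nat.card_eq_fintype_card, Fintype.card_subtype, Finset.card_filter]
        exact Finset.sum_congr rfl fun M _ => by split_ifs <;> rfl
      rw [hb, Nat.card_eq_fintype_card (α := M')]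
      simp
    -- `#B ≡ 1`
    have hBc : Nat.card {H : X // B H} ≡ 1 [MOD p] := by
      have hT : ∀ T : T', Nat.card {H : X // H.1 ≤ T.1} ≡ 1 [MOD p] := fun T => by
        rw [hsub]
        refine SubgroupCount.card_subgroup_prime_pow_modEq_one hp.out ?_
        have h := T.1.card_mul_index
        rw [T.2.2, hn, show n = (n - 2) + 2 by omega, pow_add] at h
        rw [Nat.eq_of_mul_eq_mul_right (pow_pos hp.out.pos 2) h]
        exact pow_dvd_pow p (by omega)
      have hHT : ∀ H : X, Nat.card {T : T' // H.1 ≤ T.1} ≡ (if B H then 1 else 0) [MOD p] := by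
        intro H
        set K := H.1 ⊔ frattini P
        have he : Nat.card {T : T' // H.1 ≤ T.1} = Nat.card {T : Subgroup P // K ≤ T ∧ T.index = p ^ 2} :=
          Nat.card_congr
            { toFun := fun T => ⟨T.1.1, sup_le T.2 T.1.2.1, T.1.2.2⟩
              invFun := fun T => ⟨⟨T.1, le_sup_right.trans T.2.1, T.2.2⟩, le_sup_left.trans T.2.1⟩
              left_inv := fun T => rfl
              right_inv := fun T => rfl }
        rw [he]
        by_cases hB : B H
        · rw [if_pos hB]; exact second_over hP le_sup_right hB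
        · rw [if_neg hB]
          refine modEq_of_eq (Nat.card_eq_zero.mpr (Or.inl ⟨fun T => hB ?_⟩))
          have := Subgroup.index_dvd_of_le T.2.1
          rwa [T.2.2] at this
      have h3 := double_count (fun (H : X) (T : T') => H.1 ≤ T.1)
      have h4 : Nat.card T' ≡ 1 [MOD p] := second_over hP le_rfl hd
      calc Nat.card {H : X // B H} = ∑ H : X, (if B H then 1 else 0) := by
            rw [Finset.sum_boole, Nat.card_eq_fintype_card, Fintype.card_subtype]; simp
        _ ≡ ∑ H : X, Nat.card {T : T' // H.1 ≤ T.1} [MOD p] := (sum_modEq _ fun H _ => hHT H).symm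
        _ = ∑ T : T', Nat.card {H : X // H.1 ≤ T.1} := h3
        _ ≡ ∑ T : T', 1 [MOD p] := sum_modEq _ fun T _ => hT T
        _ = Nat.card T' := by rw [Finset.sum_const, Finset.card_univ, Nat.card_eq_fintype_card]; simp
        _ ≡ 1 [MOD p] := h4
    have hc : c ≡ 1 [MOD p] := by
      by_cases hex : ∃ C : Subgroup P, IsCyclic C ∧ C.index = p
      · obtain ⟨C, hC, hCi⟩ := hex
        exact modEq_of_eq (card_noncyclic_coatom_of_cyclic hp2 hP hnc hn (by omega) hC hCi)
      · have : c = Nat.card M' := Nat.card_congr (Equiv.subtypeEquivRight fun M =>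
          ⟨fun h => h.1, fun h => ⟨h, fun hM => hex ⟨M, hM, h⟩⟩⟩)
        rw [this]
        have h5 := hmax'.of_dvd (dvd_pow_self p two_ne_zero)
        exact h5.trans (by simp [Nat.ModEq])
    have hBp : p * Nat.card {H : X // B H} ≡ p * 1 [MOD p ^ 2] := by
      rw [sq]; exact hBc.mul_left' p
    have hcp : p * c ≡ p * 1 [MOD p ^ 2] := by
      rw [sq]; exact hc.mul_left' p
    have h6 : Nat.card X + p ≡ (1 + p) + p [MOD p ^ 2] := by
      calc Nat.card X + p = Nat.card X + p * 1 := by rw [mul_one]
        _ ≡ Nat.card X + p * Nat.card {H : X // B H} [MOD p ^ 2] := (hBp.symm).add_left _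
        _ ≡ ∑ H : X, Nat.card {M : M' // H.1 ≤ M.1} [MOD p ^ 2] := h1.symm
        _ = ∑ M : M', Nat.card {H : X // H.1 ≤ M.1} := hcount
        _ ≡ Nat.card M' + p * c [MOD p ^ 2] := h2
        _ ≡ (1 + p) + p * 1 [MOD p ^ 2] := Nat.ModEq.add hmax' hcp
        _ = (1 + p) + p := by rw [mul_one]
    exact Nat.ModEq.add_right_cancel' p h6

/-- Kulakoff. -/
theorem cnt_modEq (hp2 : p ≠ 2) (P : Type u) [Group P] [Finite P] {n : ℕ} (hn : Nat.card P = p ^ n)
    (hnc : ¬ IsCyclic P) {a : ℕ} (ha : 1 ≤ a) (han : a < n) : cnt p P a ≡ 1 + p [MOD p ^ 2] :=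
  cnt_modEq_aux hp2 n P hn hnc a ha han

end Cfsg.Agent.Kulakoff
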