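import Cfsg.Agent.EqLemmas
import Cfsg.Agent.Lib.Kulakoff.PGroup

/-!
# Subgroups of order `p ^ a` in a group and in its Sylow subgroup (owner: helper76)

* `cnt_modEq_sylow`: their numbers agree mod `p²` when `p ^ (a + 1)` divides the order
-/

namespace Cfsg.Agent.Kulakoff

open scoped Pointwise

/-- If all orbits downstairs and all fibres have size divisible by `d`, `d²` divides the size upstairs. -/
theorem sq_dvd_of_fibres {A X Y : Type*} [Group A] [MulAction A X] [MulAction A Y] [Finite X] [Finite Y]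
    (f : X → Y) (hf : ∀ (a : A) x, f (a • x) = a • f x) {d : ℕ}
    (horb : ∀ y : Y, d ∣ Nat.card (MulAction.orbit A y)) (hfib : ∀ y, d ∣ Nat.card {x // f x = y}) :
    d ^ 2 ∣ Nat.card X := by
  classical
  haveI : Fintype (MulAction.orbitRel.Quotient A Y) := Fintype.ofFinite _
  let g : X → MulAction.orbitRel.Quotient A Y := fun x => Quotient.mk'' (f x)
  rw [← Nat.card_congr (Equiv.sigmaFiberEquiv g), Nat.card_sigma]
  refine Finset.dvd_sum fun ω _ => ?_
  induction ω using Quotient.inductionOn' with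
  | h y =>
    have e : {x // g x = Quotient.mk'' y} ≃ {z : MulAction.orbit A y // True} × {x // f x = y} := by
      let t : MulAction.orbit A y → A := fun z => Classical.choose z.2
      have ht : ∀ z : MulAction.orbit A y, t z • y = z.1 := fun z => Classical.choose_spec z.2
      refine
        { toFun := fun x => (⟨⟨f x.1, MulAction.orbitRel_apply.mp (Quotient.eq''.mp x.2)⟩, trivial⟩,
            ⟨(t ⟨f x.1, MulAction.orbitRel_apply.mp (Quotient.eq''.mp x.2)⟩)⁻¹ • x.1, by
              rw [hf, inv_smul_eq_iff, ht]⟩)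
          invFun := fun zx => ⟨t zx.1.1 • zx.2.1, by
            show Quotient.mk'' (f (t zx.1.1 • zx.2.1)) = Quotient.mk'' y
            rw [hf, zx.2.2]
            exact Quotient.eq''.mpr (MulAction.orbitRel_apply.mpr ⟨_, rfl⟩)⟩
          left_inv := fun x => Subtype.ext (by simp)
          right_inv := ?_ }
      rintro ⟨⟨z, -⟩, x⟩
      have hz : (⟨f (t z • x.1), by rw [hf, x.2]; exact ⟨_, rfl⟩⟩ : MulAction.orbit A y) = z :=
        Subtype.ext (show f (t z • x.1) = z.1 by rw [hf, x.2, ht])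
      refine Prod.ext (Subtype.ext hz) (Subtype.ext ?_)
      show (t ⟨f (t z • x.1), _⟩)⁻¹ • t z • x.1 = x.1
      rw [hz, inv_smul_smul]
    rw [Nat.card_congr e, Nat.card_prod, sq, Nat.card_congr (Equiv.subtypeUnivEquiv fun _ => trivial)]
    exact mul_dvd_mul (horb y) (hfib y)

variable {G : Type*} [Group G] [Finite G] {p : ℕ} [hp : Fact p.Prime]

omit [Finite G] hp in
theorem conj_smul_eq_self {g : G} {H : Subgroup G} :
    MulAut.conj g • H = H ↔ g ∈ Subgroup.normalizer (H : Set G) := by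
  rw [Subgroup.mem_normalizer_iff', SetLike.ext_iff]
  simp only [Subgroup.mem_pointwise_smul_iff_inv_smul_mem, MulAut.smul_def, MulAut.conj_inv_apply]
  constructor
  · intro h y
    have := h (g * y)
    simpa [mul_assoc] using this
  · intro h x
    have := h (g⁻¹ * x)
    simpa [mul_assoc] using this

omit [Finite G] hp in
theorem smul_le_iff {g : G} {S A : Subgroup G} (h : MulAut.conj g • S = S) :
    MulAut.conj g • A ≤ S ↔ A ≤ S := by
  conv_lhs => rw [← h]
  exact Subgroup.pointwise_smul_le_pointwise_smul_iff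

omit [Finite G] hp in
theorem le_smul_iff' {g : G} {S A : Subgroup G} (h : MulAut.conj g • S = S) :
    S ≤ MulAut.conj g • A ↔ S ≤ A := by
  conv_lhs => rw [← h]
  exact Subgroup.pointwise_smul_le_pointwise_smul_iff

omit [Finite G] hp in
theorem card_conj (g : G) (H : Subgroup G) : Nat.card (MulAut.conj g • H : Subgroup G) = Nat.card H :=
  (Nat.card_congr (Subgroup.equivSMul (MulAut.conj g) H).toEquiv).symm

theorem cnt_modEq_sylow {a : ℕ} (h : p ^ (a + 1) ∣ Nat.card G) (P : Sylow p G) :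
    cnt p G a ≡ cnt p (P : Subgroup G) a [MOD p ^ 2] := by
  classical
  set P₀ : Subgroup G := (P : Subgroup G) with hP₀
  obtain ⟨n, hn⟩ := P.isPGroup'.exists_card_eq
  have han : a + 1 ≤ n := by
    have := P.card_eq_multiplicity
    rw [hn] at this
    rw [Nat.pow_right_injective hp.out.two_le this]
    exact (hp.out.pow_dvd_iff_le_factorization Nat.card_pos.ne').mp h
  let X := {H : Subgroup G // Nat.card H = p ^ a}
  letI actX : MulAction P₀ X :=
    { smul := fun g H => ⟨MulAut.conj (g : G) • H.1, (card_conj _ _).trans H.2⟩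
      one_smul := fun H => Subtype.ext (by show MulAut.conj ((1 : P₀) : G) • H.1 = H.1; simp)
      mul_smul := fun g k H => Subtype.ext (by
        show MulAut.conj ((g * k : P₀) : G) • H.1 = MulAut.conj (g : G) • MulAut.conj (k : G) • H.1
        rw [smul_smul, ← map_mul, Subgroup.coe_mul]) }
  have hsv : ∀ (g : P₀) (H : X), (g • H).1 = MulAut.conj (g : G) • H.1 := fun _ _ => rfl
  have hfix : ∀ (g : P₀), MulAut.conj (g : G) • P₀ = P₀ := fun g =>
    conj_smul_eq_self.mpr (Subgroup.le_normalizer g.2)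
  have hle : ∀ (g : P₀) (H : X), (g • H).1 ≤ P₀ ↔ H.1 ≤ P₀ := fun g H => by
    rw [hsv]
    exact smul_le_iff (hfix g)
  let stab : X → Subgroup G := fun H => P₀ ⊓ Subgroup.normalizer (H.1 : Set G)
  -- three kinds
  let isA : X → Prop := fun H => H.1 ≤ P₀
  let isB : X → Prop := fun H => ¬ H.1 ≤ P₀ ∧ Nat.card (MulAction.orbit P₀ H) = p
  have hstab : ∀ H : X, (MulAction.stabilizer P₀ H).map P₀.subtype = stab H := by
    intro H
    ext g
    constructor
    · rintro ⟨x, hx, rfl⟩
      exact ⟨x.2, conj_smul_eq_self.mp (congrArg Subtype.val (MulAction.mem_stabilizer_iff.mp hx))⟩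
    · rintro ⟨hg, hg'⟩
      exact ⟨⟨g, hg⟩, MulAction.mem_stabilizer_iff.mpr (Subtype.ext (conj_smul_eq_self.mpr hg')), rfl⟩
  have horb : ∀ H : X, ∃ i, Nat.card (MulAction.orbit P₀ H) = p ^ i := fun H => P.isPGroup'.card_orbit H
  have horb_mul : ∀ H : X, Nat.card (MulAction.orbit P₀ H) * Nat.card (stab H) = p ^ n := by
    intro H
    rw [← hstab, Subgroup.card_map_of_injective P₀.subtype_injective, ← hn, ← Nat.card_prod]
    exact Nat.card_congr (MulAction.orbitProdStabilizerEquivGroup P₀ H)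
  -- orbits of size one lie in `P`
  have hone : ∀ H : X, Nat.card (MulAction.orbit P₀ H) = 1 → H.1 ≤ P₀ := by
    intro H h1
    have hs : stab H = P₀ := by
      refine Subgroup.eq_of_le_of_card_ge inf_le_left ?_
      have := horb_mul H
      rw [h1, one_mul] at this
      rw [this, hn]
    have hN : P₀ ≤ Subgroup.normalizer (H.1 : Set G) := hs ▸ inf_le_right
    have hH : IsPGroup p H.1 := IsPGroup.of_card H.2
    have hsup : IsPGroup p (H.1 ⊔ P₀ : Subgroup G) := by
      rw [sup_comm]; exact P.isPGroup'.to_sup_of_normal_right' hH hN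
    exact le_sup_left.trans (P.is_maximal' hsup le_sup_right).le
  -- `p²` divides the rest
  have hR : p ^ 2 ∣ Nat.card {H : X // ¬ isA H ∧ ¬ isB H} := by
    have hinv : ∀ (g : P₀) (H : X), ¬ isA H ∧ ¬ isB H → ¬ isA (g • H) ∧ ¬ isB (g • H) := by
      intro g H hH
      refine ⟨fun h' => hH.1 ((hle g H).mp h'), fun h' => hH.2 ⟨hH.1, ?_⟩⟩
      have := h'.2
      rwa [MulAction.orbit_smul] at this
    letI actR : MulAction P₀ {H : X // ¬ isA H ∧ ¬ isB H} :=
      { smul := fun g H => ⟨g • H.1, hinv g H.1 H.2⟩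
        one_smul := fun H => Subtype.ext (one_smul P₀ H.1)
        mul_smul := fun g k H => Subtype.ext (mul_smul g k H.1) }
    refine SubgroupCount.dvd_card_of_dvd_orbit (A := P₀) fun H => ?_
    have he : Nat.card (MulAction.orbit P₀ H) = Nat.card (MulAction.orbit P₀ H.1) :=
      Nat.card_congr
        { toFun := fun z => ⟨z.1.1, by obtain ⟨g, hg⟩ := z.2; exact ⟨g, congrArg Subtype.val hg⟩⟩
          invFun := fun z => ⟨⟨z.1, by obtain ⟨g, hg⟩ := z.2; exact hg ▸ hinv g H.1 H.2⟩,
            by obtain ⟨g, hg⟩ := z.2; exact ⟨g, Subtype.ext hg⟩⟩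
          left_inv := fun z => rfl
          right_inv := fun z => rfl }
    rw [he]
    obtain ⟨i, hi⟩ := horb H.1
    rw [hi]
    refine pow_dvd_pow p ?_
    by_contra hlt
    rcases (by omega : i = 0 ∨ i = 1) with rfl | rfl
    · exact H.2.1 (hone H.1 (by rw [hi, pow_zero]))
    · exact H.2.2 ⟨H.2.1, by rw [hi, pow_one]⟩
  -- the orbits of size `p`, by stabiliser
  have hB : p ^ 2 ∣ Nat.card {H : X // isB H} := by
    let σ : {H : X // isB H} → Subgroup G := fun H => stab H.1
    haveI : Fintype (Subgroup G) := Fintype.ofFinite _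
    rw [← Nat.card_congr (Equiv.sigmaFiberEquiv σ), Nat.card_sigma]
    refine Finset.dvd_sum fun Q _ => ?_
    rcases isEmpty_or_nonempty {H // σ H = Q} with hem | ⟨⟨H₀, hH₀⟩⟩
    · simp
    -- `Q` has index `p` in `P`
    have hQP : Q ≤ P₀ := hH₀ ▸ inf_le_left
    obtain ⟨m, rfl⟩ : ∃ m, n = m + 1 := ⟨n - 1, by omega⟩
    have hQc : Nat.card Q = p ^ m := by
      have := horb_mul H₀.1
      rw [H₀.2.2, pow_succ'] at this
      rw [← hH₀]
      exact Nat.eq_of_mul_eq_mul_left hp.out.pos this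
    have hQn : P₀ ≤ Subgroup.normalizer (Q : Set G) := by
      have hidx : (Q.subgroupOf P₀).index = p := by
        have h1 := (Q.subgroupOf P₀).card_mul_index
        rw [Nat.card_congr (Subgroup.subgroupOfEquivOfLe hQP).toEquiv, hQc, hn, pow_succ] at h1
        exact Nat.eq_of_mul_eq_mul_left (pow_pos hp.out.pos m) h1
      haveI : (Q.subgroupOf P₀).Normal :=
        PGroup.isCoatom_normal P.isPGroup' ((index_coatom_iff P.isPGroup').mp hidx)
      exact (Subgroup.normal_subgroupOf_iff_le_normalizer hQP).mp inferInstance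
    let Z := {R : Sylow p G // Q ≤ R ∧ (R : Subgroup G) ≠ P₀}
    have hQfix : ∀ g : P₀, MulAut.conj (g : G) • Q = Q := fun g => conj_smul_eq_self.mpr (hQn g.2)
    have hinvZ : ∀ (g : P₀) (R : Z), Q ≤ ((g : G) • R.1 : Sylow p G) ∧ (((g : G) • R.1 : Sylow p G) : Subgroup G) ≠ P₀ := by
      intro g R
      show Q ≤ MulAut.conj (g : G) • (R.1 : Subgroup G) ∧ MulAut.conj (g : G) • (R.1 : Subgroup G) ≠ P₀
      refine ⟨(le_smul_iff' (hQfix g)).mpr R.2.1, fun h => R.2.2 ?_⟩
      exact smul_left_cancel _ (h.trans (hfix g).symm)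
    letI actZ : MulAction P₀ Z :=
      { smul := fun g R => ⟨(g : G) • R.1, hinvZ g R⟩
        one_smul := fun R => Subtype.ext (by show ((1 : P₀) : G) • R.1 = R.1; simp)
        mul_smul := fun g k R => Subtype.ext (by
          show ((g * k : P₀) : G) • R.1 = (g : G) • ((k : G) • R.1)
          rw [smul_smul, Subgroup.coe_mul]) }
    let W := {H : {H : X // isB H} // σ H = Q}
    have hinvW : ∀ (g : P₀) (H : W), ∃ h' : isB (g • H.1.1), σ ⟨g • H.1.1, h'⟩ = Q := by
      intro g H
      have hb : isB (g • H.1.1) := ⟨fun h' => H.1.2.1 ((hle g _).mp h'), by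
        rw [MulAction.orbit_smul]; exact H.1.2.2⟩
      refine ⟨hb, ?_⟩
      show P₀ ⊓ Subgroup.normalizer (((g • H.1.1).1 : Subgroup G) : Set G) = Q
      have h2 : P₀ ⊓ Subgroup.normalizer ((H.1.1.1 : Subgroup G) : Set G) = Q := H.2
      calc _ = MulAut.conj (g : G) • (P₀ ⊓ Subgroup.normalizer ((H.1.1.1 : Subgroup G) : Set G)) := by
            rw [Subgroup.smul_inf, hfix g, hsv]
            congr 1
            ext x
            rw [Subgroup.mem_pointwise_smul_iff_inv_smul_mem, ← conj_smul_eq_self, ← conj_smul_eq_self,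
              MulAut.smul_def, MulAut.conj_inv_apply, map_mul, map_mul, map_inv, mul_smul, mul_smul,
              inv_smul_eq_iff]
        _ = MulAut.conj (g : G) • Q := congrArg _ h2
        _ = Q := hQfix g
    letI actW : MulAction P₀ W :=
      { smul := fun g H => ⟨⟨g • H.1.1, (hinvW g H).1⟩, (hinvW g H).2⟩
        one_smul := fun H => Subtype.ext (Subtype.ext (one_smul P₀ H.1.1))
        mul_smul := fun g k H => Subtype.ext (Subtype.ext (mul_smul g k H.1.1)) }
    -- `H ↦ H ⊔ Q`
    have hsyl : ∀ H : W, IsPGroup p (H.1.1.1 ⊔ Q : Subgroup G) ∧ ¬ p ∣ (H.1.1.1 ⊔ Q).index ∧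
        H.1.1.1 ⊔ Q ≠ P₀ ∧ ¬ H.1.1.1 ≤ Q := by
      intro H
      have h2 : P₀ ⊓ Subgroup.normalizer ((H.1.1.1 : Subgroup G) : Set G) = Q := H.2
      have hN : Q ≤ Subgroup.normalizer (H.1.1.1 : Set G) := h2.ge.trans inf_le_right
      have hpg : IsPGroup p (H.1.1.1 ⊔ Q : Subgroup G) := by
        rw [sup_comm]
        exact (P.isPGroup'.to_le hQP).to_sup_of_normal_right' (IsPGroup.of_card H.1.1.2) hN
      have hnle : ¬ H.1.1.1 ≤ Q := fun h' => H.1.2.1 (h'.trans hQP)
      refine ⟨hpg, fun hd => ?_, fun he => H.1.2.1 (le_sup_left.trans he.le), hnle⟩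
      obtain ⟨R, hR⟩ := hpg.exists_le_sylow
      obtain ⟨k, hk⟩ := hpg.exists_card_eq
      have hlt : Nat.card Q < Nat.card (H.1.1.1 ⊔ Q : Subgroup G) :=
        lt_of_le_of_ne (Subgroup.card_le_of_le le_sup_right) fun he =>
          hnle (le_sup_left.trans (Subgroup.eq_of_le_of_card_ge le_sup_right he.ge).ge)
      rw [hQc, hk] at hlt
      have hkm := (Nat.pow_lt_pow_iff_right hp.out.one_lt).mp hlt
      have hRc : Nat.card R = Nat.card P₀ := R.card_eq_multiplicity.trans P.card_eq_multiplicity.symm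
      have heq : H.1.1.1 ⊔ Q = R := Subgroup.eq_of_le_of_card_ge hR (by
        rw [hk]; refine le_of_eq_of_le (hRc.trans hn) (Nat.pow_le_pow_right hp.out.pos hkm))
      exact R.not_dvd_index (heq ▸ hd)
    let φ : W → Z := fun H => ⟨(hsyl H).1.toSylow (hsyl H).2.1, by
      rw [IsPGroup.toSylow_coe]; exact ⟨le_sup_right, (hsyl H).2.2.1⟩⟩
    have hφ : ∀ (g : P₀) (H : W), φ (g • H) = g • φ H := by
      intro g H
      refine Subtype.ext (Sylow.ext ?_)
      show (MulAut.conj (g : G) • H.1.1.1) ⊔ Q = MulAut.conj (g : G) • (H.1.1.1 ⊔ Q)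
      rw [Subgroup.smul_sup, hQfix g]
    haveI : Finite Z := Subtype.finite
    refine sq_dvd_of_fibres φ hφ (fun R => ?_) (fun R => ?_)
    · obtain ⟨i, hi⟩ := P.isPGroup'.card_orbit R
      rw [hi]
      refine dvd_pow_self p fun h0 => R.2.2 ?_
      rw [h0, pow_zero] at hi
      have hfx : ∀ g : P₀, (g : G) • R.1 = R.1 := fun g => by
        haveI := (Nat.card_eq_one_iff_unique.mp hi).1
        exact congrArg (fun z : MulAction.orbit P₀ R => z.1.1)
          (Subsingleton.elim (⟨g • R, MulAction.mem_orbit R g⟩ : MulAction.orbit P₀ R) ⟨R, MulAction.mem_orbit_self R⟩)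
      have hle' : P₀ ≤ (R.1 : Subgroup G) := by
        intro g hg
        have hfg := hfx ⟨g, hg⟩
        rw [Sylow.smul_eq_iff_mem_normalizer] at hfg
        have hpg : IsPGroup p (Subgroup.zpowers g) := P.isPGroup'.to_le (Subgroup.zpowers_le.mpr hg)
        exact (show g ∈ Subgroup.zpowers g ⊓ (R.1 : Subgroup G) by
          rw [← hpg.inf_normalizer_sylow R.1]; exact ⟨Subgroup.mem_zpowers g, hfg⟩).2
      exact (P.is_maximal' R.1.isPGroup' hle')
    -- fibres
    have hQR : Q ≤ (R.1 : Subgroup G) := R.2.1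
    have hRc : Nat.card R.1 = p ^ (m + 1) := by
      rw [← hn]; exact R.1.card_eq_multiplicity.trans P.card_eq_multiplicity.symm
    let Y := {H : X // H.1 ≤ (R.1 : Subgroup G) ∧ ¬ H.1 ≤ Q}
    have hRn : (R.1 : Subgroup G) ≤ Subgroup.normalizer (Q : Set G) := by
      have hidx : (Q.subgroupOf (R.1 : Subgroup G)).index = p := by
        have h1 := (Q.subgroupOf (R.1 : Subgroup G)).card_mul_index
        rw [Nat.card_congr (Subgroup.subgroupOfEquivOfLe hQR).toEquiv, hQc, hRc, pow_succ] at h1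
        exact Nat.eq_of_mul_eq_mul_left (pow_pos hp.out.pos m) h1
      haveI : (Q.subgroupOf (R.1 : Subgroup G)).Normal :=
        PGroup.isCoatom_normal R.1.isPGroup' ((index_coatom_iff R.1.isPGroup').mp hidx)
      exact (Subgroup.normal_subgroupOf_iff_le_normalizer hQR).mp inferInstance
    have hfixQ : ∀ g : Q, MulAut.conj (g : G) • Q = Q := fun g => conj_smul_eq_self.mpr (Subgroup.le_normalizer g.2)
    have hfixR : ∀ g : Q, MulAut.conj (g : G) • (R.1 : Subgroup G) = (R.1 : Subgroup G) := fun g =>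
      conj_smul_eq_self.mpr (Subgroup.le_normalizer (hQR g.2))
    letI actY : MulAction Q Y :=
      { smul := fun g H => ⟨(⟨g, hQP g.2⟩ : P₀) • H.1, by
          rw [hsv]
          exact ⟨(smul_le_iff (hfixR g)).mpr H.2.1, fun h' => H.2.2 ((smul_le_iff (hfixQ g)).mp h')⟩⟩
        one_smul := fun H => Subtype.ext (one_smul P₀ H.1)
        mul_smul := fun g k H => Subtype.ext (mul_smul (⟨g, hQP g.2⟩ : P₀) ⟨k, hQP k.2⟩ H.1) }
    have hY : Nat.card Y ≡ 0 [MOD p] := by
      have hpart : ∀ (S : Subgroup G), Nat.card {H : X // H.1 ≤ S} = cnt p S a := fun S => by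
        rw [cnt_sub]
        exact Nat.card_congr
          { toFun := fun H => ⟨H.1.1, H.1.2, H.2⟩
            invFun := fun H => ⟨⟨H.1, H.2.1⟩, H.2.2⟩
            left_inv := fun H => rfl
            right_inv := fun H => rfl }
      have hsum : Nat.card {H : X // H.1 ≤ (R.1 : Subgroup G)} = Nat.card {H : X // H.1 ≤ Q} + Nat.card Y := by
        rw [← Nat.card_sum]
        refine Nat.card_congr ((Equiv.sumCompl fun H : {H : X // H.1 ≤ (R.1 : Subgroup G)} => H.1.1 ≤ Q).symm.trans
          (Equiv.sumCongr ?_ (Equiv.subtypeSubtypeEquivSubtypeInter _ fun H : X => ¬ H.1 ≤ Q)))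
        exact Equiv.subtypeSubtypeEquivSubtype (q := fun H : X => H.1 ≤ Q) fun {H} (h' : H.1 ≤ Q) => h'.trans hQR
      have h1 := SubgroupCount.card_subgroup_prime_pow_modEq_one (G := (R.1 : Subgroup G)) (β := a) hp.out
        (hRc ▸ pow_dvd_pow p (by omega))
      have h2 := SubgroupCount.card_subgroup_prime_pow_modEq_one (G := Q) (β := a) hp.out
        (hQc ▸ pow_dvd_pow p (by omega))
      change cnt p _ a ≡ _ [MOD p] at h1 h2
      rw [← hpart] at h1 h2
      rw [hsum] at h1
      have h3 : Nat.card {H : X // H.1 ≤ Q} + Nat.card Y ≡ Nat.card {H : X // H.1 ≤ Q} + 0 [MOD p] := by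
        rw [add_zero]; exact h1.trans h2.symm
      exact Nat.ModEq.add_left_cancel' _ h3
    have hQg : IsPGroup p Q := P.isPGroup'.to_le hQP
    have hfp := (hQg.card_modEq_card_fixedPoints Y).symm.trans hY
    rw [← Nat.modEq_zero_iff_dvd]
    refine (?_ : Nat.card {H : W // φ H = R} = Nat.card (MulAction.fixedPoints Q Y)) ▸ hfp
    have hmemW : ∀ H : Y, H ∈ MulAction.fixedPoints Q Y →
        ∃ hb : isB H.1, σ ⟨H.1, hb⟩ = Q := by
      intro H hH
      have hN : Q ≤ Subgroup.normalizer (H.1.1 : Set G) := fun g hg =>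
        conj_smul_eq_self.mp (congrArg (fun z : Y => z.1.1) (hH ⟨g, hg⟩))
      have hnP : ¬ H.1.1 ≤ P₀ := by
        intro hP'
        refine H.2.2 (le_trans (le_inf hP' H.2.1) ?_)
        have hlt : (R.1 : Subgroup G) ⊓ P₀ ≠ R.1 := fun he => R.2.2 ((R.1.is_maximal' P.isPGroup' (inf_eq_left.mp he))).symm
        have hQle : Q ≤ (R.1 : Subgroup G) ⊓ P₀ := le_inf hQR hQP
        obtain ⟨j, hj⟩ := (R.1.isPGroup'.to_le (inf_le_left : (R.1 : Subgroup G) ⊓ P₀ ≤ R.1)).exists_card_eq
        have hl := lt_of_le_of_ne (Subgroup.card_le_of_le (inf_le_left : (R.1 : Subgroup G) ⊓ P₀ ≤ R.1))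
          fun he => hlt (Subgroup.eq_of_le_of_card_ge inf_le_left he.ge)
        rw [hj, hRc] at hl
        have hjm := (Nat.pow_lt_pow_iff_right hp.out.one_lt).mp hl
        have he : Q = (R.1 : Subgroup G) ⊓ P₀ := Subgroup.eq_of_le_of_card_ge hQle (by
          rw [hj, hQc]; exact Nat.pow_le_pow_right hp.out.pos (by omega))
        rw [inf_comm, ← he]
      have hs : stab H.1 = Q := by
        obtain ⟨j, hj⟩ := (P.isPGroup'.to_le (inf_le_left : stab H.1 ≤ P₀)).exists_card_eq
        have hl := lt_of_le_of_ne (Subgroup.card_le_of_le (inf_le_left : stab H.1 ≤ P₀)) fun he => hnP (hone H.1 (by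
          have := horb_mul H.1
          rw [he, hn] at this
          exact Nat.eq_of_mul_eq_mul_right (pow_pos hp.out.pos _) (this.trans (one_mul _).symm)))
        rw [hj, hn] at hl
        have hjm := (Nat.pow_lt_pow_iff_right hp.out.one_lt).mp hl
        exact (Subgroup.eq_of_le_of_card_ge (le_inf hQP hN) (by
          rw [hj, hQc]; exact Nat.pow_le_pow_right hp.out.pos (by omega))).symm
      refine ⟨⟨hnP, ?_⟩, hs⟩
      have := horb_mul H.1
      rw [hs, hQc, pow_succ'] at this
      exact Nat.eq_of_mul_eq_mul_right (pow_pos hp.out.pos m) this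
    refine Nat.card_congr
      { toFun := fun H => ⟨⟨H.1.1.1, by
            have he := congrArg (fun z : Z => (z.1 : Subgroup G)) H.2
            simp only [φ, IsPGroup.toSylow_coe] at he
            exact ⟨le_sup_left.trans he.le, (hsyl H.1).2.2.2⟩⟩, fun g => Subtype.ext (Subtype.ext (by
            have h2 : P₀ ⊓ Subgroup.normalizer ((H.1.1.1.1 : Subgroup G) : Set G) = Q := H.1.2
            exact conj_smul_eq_self.mpr ((h2.ge g.2).2)))⟩
        invFun := fun H => ⟨⟨⟨H.1.1, (hmemW H.1 H.2).1⟩, (hmemW H.1 H.2).2⟩, Subtype.ext (Sylow.ext (by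
          obtain ⟨hb, hs⟩ := hmemW H.1 H.2
          have hsy := hsyl ⟨⟨H.1.1, hb⟩, hs⟩
          show H.1.1.1 ⊔ Q = (R.1 : Subgroup G)
          exact ((hsy.1.toSylow hsy.2.1).is_maximal' R.1.isPGroup' (sup_le H.1.2.1 hQR)).symm))⟩
        left_inv := fun H => rfl
        right_inv := fun H => rfl }
  have hsplit : cnt p G a = Nat.card {H : X // isA H} + (Nat.card {H : X // isB H} + Nat.card {H : X // ¬ isA H ∧ ¬ isB H}) := by
    show Nat.card X = _
    rw [← Nat.card_sum, ← Nat.card_sum]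
    refine Nat.card_congr ((Equiv.sumCompl isA).symm.trans (Equiv.sumCongr (Equiv.refl _) ?_))
    refine ((Equiv.sumCompl fun H : {H : X // ¬ isA H} => isB H.1).symm.trans (Equiv.sumCongr ?_ ?_))
    · exact Equiv.subtypeSubtypeEquivSubtype fun h' => h'.1
    · exact Equiv.subtypeSubtypeEquivSubtypeInter _ fun H : X => ¬ isB H
  have hA : Nat.card {H : X // isA H} = cnt p P₀ a := by
    rw [cnt_sub]
    exact Nat.card_congr
      { toFun := fun H => ⟨H.1.1, H.1.2, H.2⟩
        invFun := fun H => ⟨⟨H.1, H.2.1⟩, H.2.2⟩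
        left_inv := fun H => rfl
        right_inv := fun H => rfl }
  rw [hsplit, hA]
  calc cnt p P₀ a + (Nat.card {H : X // isB H} + Nat.card {H : X // ¬ isA H ∧ ¬ isB H})
      ≡ cnt p P₀ a + (0 + 0) [MOD p ^ 2] :=
        (Nat.ModEq.add (Nat.modEq_zero_iff_dvd.mpr hB) (Nat.modEq_zero_iff_dvd.mpr hR)).add_left _
    _ = cnt p P₀ a := rfl

end Cfsg.Agent.Kulakoff
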